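import Groth.Agent.Lib.GalDescent.Basic
import Mathlib.RingTheory.TensorProduct.Basic
import Mathlib.LinearAlgebra.TensorProduct.Tower
import Mathlib.LinearAlgebra.FiniteDimensional.Basic
import Groth.Prelude.Def_GalDesc

/-!
# Descent equivalence and base changes of `k`-spaces
-/

universe u v w w'

open scoped TensorProduct

namespace GrothLib.GalDescent

open Module

variable {k : Type u} {K : Type v} [Field k] [Field K] [Algebra k K]
variable {V : Type w} [AddCommGroup V] [Module K V] [Module k V] [IsScalarTower k K V]
  [DistribMulAction (K ≃ₐ[k] K) V] [SMulDistribClass (K ≃ₐ[k] K) K V]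

variable (k K V) in
/-- `c ⊗ w ↦ c • w`. -/
noncomputable def descentMap : K ⊗[k] fixed k K V →ₗ[K] V :=
  (fixed k K V).subtype.liftBaseChange K

@[simp]
theorem descentMap_tmul (c : K) (w : fixed k K V) : descentMap k K V (c ⊗ₜ w) = c • (w : V) :=
  LinearMap.liftBaseChange_tmul _ _ _ _

theorem descentMap_smul (σ : K ≃ₐ[k] K) (x : K ⊗[k] fixed k K V) :
    descentMap k K V (σ • x) = σ • descentMap k K V x := by
  induction x using TensorProduct.induction_on with
  | zero => simp
  | tmul c w => rw [TensorProduct.smul_tmul', descentMap_tmul, descentMap_tmul, smul_distrib_smul, w.2 σ]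
  | add x y hx hy => rw [smul_add, map_add, map_add, hx, hy, smul_add]

variable [FiniteDimensional k K] [IsGalois k K]

theorem descentMap_bijective : Function.Bijective (descentMap k K V) := by
  constructor
  · rw [injective_iff_map_eq_zero]
    intro x hx
    let s := Basis.ofVectorSpace k (fixed k K V)
    let t := s.baseChange K
    have hli : LinearIndependent K (fun i => (s i : V)) :=
      linearIndependent_fixed (fun i => (s i).2) (s.linearIndependent.map' _ (Submodule.ker_subtype _))
    apply t.repr.injective
    rw [map_zero]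
    have h1 := t.linearCombination_repr x
    rw [← h1, Finsupp.apply_linearCombination] at hx
    apply linearIndependent_iff.mp hli
    rw [← hx]
    congr 1
    apply congrArg
    funext i
    show (s i : V) = descentMap k K V (t i)
    rw [Basis.baseChange_apply, descentMap_tmul, one_smul]
  · intro v
    obtain ⟨f, hf⟩ := (bijective_sum_smul (V := V) (Module.finBasis k K)).2 v
    exact ⟨∑ i, Module.finBasis k K i ⊗ₜ f i, by simpa [map_sum] using hf⟩

variable (k K V) in
/-- Galois descent: `K ⊗ V^Γ ≃ V`. -/
noncomputable def descentEquiv : K ⊗[k] fixed k K V ≃ₗ[K] V :=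
  LinearEquiv.ofBijective _ descentMap_bijective

@[simp]
theorem descentEquiv_tmul (c : K) (w : fixed k K V) : descentEquiv k K V (c ⊗ₜ w) = c • (w : V) :=
  descentMap_tmul c w

theorem descentEquiv_smul (σ : K ≃ₐ[k] K) (x : K ⊗[k] fixed k K V) :
    descentEquiv k K V (σ • x) = σ • descentEquiv k K V x :=
  descentMap_smul σ x

theorem descentEquiv_symm_smul (σ : K ≃ₐ[k] K) (v : V) :
    (descentEquiv k K V).symm (σ • v) = σ • (descentEquiv k K V).symm v := by
  apply (descentEquiv k K V).injective
  rw [LinearEquiv.apply_symm_apply, descentEquiv_smul, LinearEquiv.apply_symm_apply]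

theorem finrank_fixed : finrank k (fixed k K V) = finrank K V := by
  rw [← (descentEquiv k K V).finrank_eq, Module.finrank_baseChange]

theorem finite_fixed [FiniteDimensional K V] : FiniteDimensional k (fixed k K V) :=
  haveI : Module.Finite k V := Module.Finite.trans K V
  inferInstance

section Tensor

variable {W : Type w'} [AddCommGroup W] [Module k W]

omit [FiniteDimensional k K] [IsGalois k K] in
theorem one_tmul_mem_fixed (x : W) (σ : K ≃ₐ[k] K) : σ • ((1 : K) ⊗ₜ[k] x) = (1 : K) ⊗ₜ[k] x := by
  rw [TensorProduct.smul_tmul', smul_one]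

/-- Fixed vectors of `K ⊗ W` are the vectors `1 ⊗ x`. -/
theorem exists_one_tmul_of_fixed {y : K ⊗[k] W} (hy : ∀ σ : K ≃ₐ[k] K, σ • y = y) :
    ∃ x : W, (1 : K) ⊗ₜ[k] x = y := by
  classical
  -- traces of multiples of pure tensors are of the form `1 ⊗ x`
  have hT : ∀ z : K ⊗[k] W, ∃ x : W, trSum (k := k) (K := K) z = (1 : K) ⊗ₜ[k] x := by
    intro z
    induction z using TensorProduct.induction_on with
    | zero => exact ⟨0, by simp [trSum]⟩
    | tmul c x =>
      refine ⟨Algebra.trace k K c • x, ?_⟩
      rw [← TensorProduct.smul_tmul, ← Algebra.algebraMap_eq_smul_one, trace_eq_sum_automorphisms,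
        TensorProduct.sum_tmul]
      rfl
    | add z z' hz hz' =>
      obtain ⟨x, hx⟩ := hz
      obtain ⟨x', hx'⟩ := hz'
      exact ⟨x + x', by rw [TensorProduct.tmul_add, ← hx, ← hx']; simp [trSum, Finset.sum_add_distrib]⟩
  choose x hx using hT
  obtain ⟨c, hc⟩ : ∃ c : K, Algebra.trace k K c = 1 :=
    Algebra.trace_surjective k K 1
  refine ⟨x (c • y), ?_⟩
  rw [← hx, trSum_smul_fixed c (mem_fixed.mpr hy), hc, one_smul]

end Tensor

end GrothLib.GalDescent
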