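import Mathlib.RingTheory.Trace.Basic
import Mathlib.LinearAlgebra.TensorProduct.Basis
import Mathlib.Algebra.Module.Submodule.Basic

/-!
# Galois descent for semilinear modules

For a finite Galois extension `K/k` and a `K`-module `V` with a semilinear action of the Galois group,
`V` is the base change of its fixed points, with explicit formulas through the trace.
-/

universe u v w w'

namespace GrothLib.GalDescent

open Module

variable {k : Type u} {K : Type v} [Field k] [Field K] [Algebra k K]

section Fixed

variable (k K) (V : Type w) [AddCommGroup V] [Module K V] [Module k V] [IsScalarTower k K V]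
  [DistribMulAction (K ≃ₐ[k] K) V] [SMulDistribClass (K ≃ₐ[k] K) K V]

/-- Galois elements commute with scalars from the base field. -/
theorem smul_base_smul (σ : K ≃ₐ[k] K) (c : k) (v : V) : σ • (c • v) = c • σ • v := by
  rw [← algebraMap_smul K c v, smul_distrib_smul σ (algebraMap k K c) v, AlgEquiv.smul_def,
    AlgEquiv.commutes, algebraMap_smul]

/-- The `k`-submodule of Galois-fixed vectors. -/
def fixed : Submodule k V where
  carrier := {v | ∀ σ : K ≃ₐ[k] K, σ • v = v}
  zero_mem' σ := smul_zero σ
  add_mem' hx hy σ := by rw [smul_add, hx σ, hy σ]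
  smul_mem' c x hx σ := by rw [smul_base_smul, hx σ]

variable {k K V}

theorem mem_fixed {v : V} : v ∈ fixed k K V ↔ ∀ σ : K ≃ₐ[k] K, σ • v = v := Iff.rfl

variable [FiniteDimensional k K]

/-- The sum of the conjugates. -/
noncomputable def trSum (v : V) : V := ∑ σ : K ≃ₐ[k] K, σ • v

theorem trSum_mem (v : V) : trSum (k := k) (K := K) v ∈ fixed k K V := by
  intro τ
  rw [trSum, Finset.smul_sum]
  exact Fintype.sum_equiv (Equiv.mulLeft τ) _ _ fun σ => (mul_smul τ σ v).symm

variable [IsGalois k K]

theorem trSum_smul_fixed (c : K) {w : V} (hw : w ∈ fixed k K V) :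
    trSum (k := k) (K := K) (c • w) = Algebra.trace k K c • w := by
  rw [trSum, ← algebraMap_smul K (Algebra.trace k K c) w, trace_eq_sum_automorphisms, Finset.sum_smul]
  refine Finset.sum_congr rfl fun σ _ => ?_
  rw [smul_distrib_smul, hw σ, AlgEquiv.smul_def]

/-- Orthogonality of a basis and its trace-dual with respect to the automorphisms. -/
theorem sum_mul_apply_traceDual [DecidableEq (K ≃ₐ[k] K)] {ι : Type w'} [Fintype ι] [DecidableEq ι]
    (b : Basis ι k K) (σ : K ≃ₐ[k] K) :
    ∑ i, b i * σ (b.traceDual i) = if σ = 1 then 1 else 0 := by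
  have h1 : ∀ x : K, x = ∑ τ : K ≃ₐ[k] K, (∑ i, b i * τ (b.traceDual i)) * τ x := by
    intro x
    conv_lhs => rw [← b.sum_repr x]
    simp only [Finset.sum_mul]
    rw [Finset.sum_comm]
    refine Finset.sum_congr rfl fun i _ => ?_
    have hi : b.repr x i = Algebra.trace k K (x * b.traceDual i) := by
      conv_lhs => rw [← Basis.traceDual_traceDual b]
      rw [Basis.traceDual_repr_apply, Algebra.traceForm_apply]
    rw [Algebra.smul_def, hi, trace_eq_sum_automorphisms, Finset.sum_mul]
    refine Finset.sum_congr rfl fun τ _ => ?_
    rw [map_mul]; ring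
  have hli : LinearIndependent K (fun τ : K ≃ₐ[k] K => (fun x => τ x : K → K)) :=
    (linearIndependent_monoidHom K K).comp (fun τ : K ≃ₐ[k] K => ((τ : K →ₐ[k] K) : K →* K))
      (fun τ τ' h => AlgEquiv.ext fun x => DFunLike.congr_fun h x)
  have h2 := Fintype.linearIndependent_iff.mp hli
    (fun τ => (∑ i, b i * τ (b.traceDual i)) - if τ = 1 then 1 else 0) (funext fun x => by
      simp only [Finset.sum_apply, Pi.smul_apply, smul_eq_mul, sub_mul, ite_mul, one_mul, zero_mul,
        Finset.sum_sub_distrib, Finset.sum_ite_eq', Finset.mem_univ, if_true, AlgEquiv.one_apply,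
        Pi.zero_apply]
      rw [← h1 x, sub_self]) σ
  exact sub_eq_zero.mp h2

/-- Every vector is recovered from the traces of its multiples. -/
theorem sum_smul_trSum {ι : Type w'} [Fintype ι] [DecidableEq ι] (b : Basis ι k K) (v : V) :
    ∑ i, b i • trSum (k := k) (K := K) (b.traceDual i • v) = v := by
  classical
  calc ∑ i, b i • trSum (k := k) (K := K) (b.traceDual i • v)
      = ∑ σ : K ≃ₐ[k] K, (∑ i, b i * σ (b.traceDual i)) • σ • v := by
        simp only [trSum, Finset.smul_sum, Finset.sum_smul, smul_distrib_smul, AlgEquiv.smul_def,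
          smul_smul]
        exact Finset.sum_comm
    _ = v := by
        simp [sum_mul_apply_traceDual, ite_smul]

/-- The fixed vectors span. -/
theorem span_fixed : Submodule.span K (fixed k K V : Set V) = ⊤ := by
  classical
  rw [eq_top_iff]
  intro v _
  rw [← sum_smul_trSum (Module.finBasis k K) v]
  exact Submodule.sum_mem _ fun i _ => Submodule.smul_mem _ _ (Submodule.subset_span (trSum_mem _))

/-- Descent: in a basis of `K/k`, a vector is uniquely a combination of fixed vectors. -/
theorem bijective_sum_smul {ι : Type w'} [Fintype ι] (b : Basis ι k K) :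
    Function.Bijective (fun f : ι → fixed k K V => ∑ i, b i • (f i : V)) := by
  classical
  constructor
  · intro f g h
    funext i
    apply Subtype.ext
    have key : ∀ f : ι → fixed k K V,
        trSum (k := k) (K := K) (b.traceDual i • ∑ j, b j • (f j : V)) = f i := by
      intro f
      calc trSum (k := k) (K := K) (b.traceDual i • ∑ j, b j • (f j : V))
          = ∑ j, trSum (k := k) (K := K) ((b.traceDual i * b j) • (f j : V)) := by
            simp only [trSum, Finset.smul_sum, smul_smul]
            exact Finset.sum_comm
        _ = f i := by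
            rw [Finset.sum_eq_single i]
            · rw [trSum_smul_fixed _ (f i).2, Basis.trace_traceDual_mul, if_pos rfl, one_smul]
            · intro j _ hj
              rw [trSum_smul_fixed _ (f j).2, Basis.trace_traceDual_mul, if_neg hj, zero_smul]
            · simp
    rw [← key f, ← key g]
    simp only at h
    rw [h]
  · intro v
    exact ⟨fun i => ⟨_, trSum_mem (b.traceDual i • v)⟩, sum_smul_trSum b v⟩

/-- Fixed vectors independent over `k` are independent over `K`. -/
theorem linearIndependent_fixed {ι : Type w'} {v : ι → V} (hv : ∀ i, v i ∈ fixed k K V)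
    (h : LinearIndependent k v) : LinearIndependent K v := by
  classical
  rw [linearIndependent_iff'] at h ⊢
  intro s g hg i hi
  let b := Module.finBasis k K
  have key : ∀ j, ∀ l ∈ s, Algebra.trace k K (b.traceDual j * g l) = 0 := by
    intro j
    apply h s
    calc ∑ l ∈ s, Algebra.trace k K (b.traceDual j * g l) • v l
        = trSum (k := k) (K := K) (b.traceDual j • ∑ l ∈ s, g l • v l) := by
          simp only [← trSum_smul_fixed _ (hv _)]
          simp only [trSum, Finset.smul_sum, smul_smul]
          exact Finset.sum_comm
      _ = 0 := by rw [hg, smul_zero, trSum]; simp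
  apply b.traceDual.repr.injective  -- coordinates of `g i`
  ext j
  rw [map_zero, Finsupp.zero_apply, Basis.traceDual_repr_apply, Algebra.traceForm_apply]
  have := fun m => key m i hi
  -- write `b j` in the dual basis
  rw [← b.traceDual.sum_repr (b j), Finset.mul_sum, map_sum]
  refine Finset.sum_eq_zero fun m _ => ?_
  rw [mul_smul_comm, map_smul, mul_comm, this m, smul_zero]

end Fixed

end GrothLib.GalDescent
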