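import Groth.Agent.Lib.GalDescent.Tensor
import Mathlib.FieldTheory.Galois.Basic
import Mathlib.LinearAlgebra.FreeModule.Finite.Basic

/-!
# Twisted descent: forms and cocycles
-/

universe u v w w' w''

open scoped TensorProduct

namespace GrothLib.GalDescent

open Module

variable {k : Type u} {K : Type v} [Field k] [Field K] [Algebra k K]

section Twist

variable {M : Type w} [AddCommGroup M] [Module K M] [Module k M] [IsScalarTower k K M]
  [DistribMulAction (K ≃ₐ[k] K) M] [SMulDistribClass (K ≃ₐ[k] K) K M]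

/-- `M` with the Galois action twisted by the cocycle `a`. -/
def Twist (_a : GpH1.OneCocycle (K ≃ₐ[k] K) (M ≃ₗ[K] M)) : Type w := M

variable (a : GpH1.OneCocycle (K ≃ₐ[k] K) (M ≃ₗ[K] M))

instance : AddCommGroup (Twist a) := inferInstanceAs (AddCommGroup M)
instance : Module K (Twist a) := inferInstanceAs (Module K M)
instance : Module k (Twist a) := inferInstanceAs (Module k M)
instance : IsScalarTower k K (Twist a) := inferInstanceAs (IsScalarTower k K M)

/-- The identity `M ≃ Twist a`. -/
def Twist.mk : M ≃ₗ[K] Twist a := LinearEquiv.refl K M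

theorem cocycle_one : a 1 = 1 := by
  have h := a.2 1 1
  rw [one_smul, mul_one] at h
  exact mul_eq_left.mp h.symm

instance : SMul (K ≃ₐ[k] K) (Twist a) :=
  ⟨fun σ x => Twist.mk a (a σ (σ • (Twist.mk a).symm x))⟩

theorem Twist.smul_mk (σ : K ≃ₐ[k] K) (x : M) : σ • Twist.mk a x = Twist.mk a (a σ (σ • x)) := rfl

instance : DistribMulAction (K ≃ₐ[k] K) (Twist a) where
  one_smul x := by
    obtain ⟨x, rfl⟩ := (Twist.mk a).surjective x
    rw [Twist.smul_mk, cocycle_one, one_smul, LinearEquiv.coe_one, id]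
  mul_smul σ τ x := by
    obtain ⟨x, rfl⟩ := (Twist.mk a).surjective x
    rw [Twist.smul_mk, Twist.smul_mk, Twist.smul_mk, a.2 σ τ, LinearEquiv.mul_apply,
      GalDesc.conj_smul_apply, mul_smul, inv_smul_smul]
  smul_zero σ := by
    rw [← map_zero (Twist.mk a), Twist.smul_mk, smul_zero, map_zero]
  smul_add σ x y := by
    obtain ⟨x, rfl⟩ := (Twist.mk a).surjective x
    obtain ⟨y, rfl⟩ := (Twist.mk a).surjective y
    rw [← map_add, Twist.smul_mk, Twist.smul_mk, Twist.smul_mk, smul_add, map_add, map_add]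

instance : SMulDistribClass (K ≃ₐ[k] K) K (Twist a) :=
  ⟨fun σ c x => by
    obtain ⟨x, rfl⟩ := (Twist.mk a).surjective x
    rw [← map_smul, Twist.smul_mk, Twist.smul_mk, smul_distrib_smul, map_smul, map_smul]⟩

theorem mem_fixed_twist {x : M} : Twist.mk a x ∈ fixed k K (Twist a) ↔ x ∈ GalDesc.fixedSub a :=
  forall_congr' fun σ => by rw [Twist.smul_mk, (Twist.mk a).injective.eq_iff]

variable [FiniteDimensional k K] [IsGalois k K]

/-- A space mapped isomorphically onto the twisted fixed vectors has `M` as its base change. -/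
theorem exists_descent_equiv {W : Type w'} [AddCommGroup W] [Module k W] (ι : W →ₗ[k] M)
    (hι : Function.Injective ι) (hW : LinearMap.range ι = GalDesc.fixedSub a) :
    ∃ h : K ⊗[k] W ≃ₗ[K] M, (∀ (c : K) (x : W), h (c ⊗ₜ x) = c • ι x) ∧
      ∀ (σ : K ≃ₐ[k] K) (y : K ⊗[k] W), h (σ • y) = a σ (σ • h y) := by
  have hfix : ∀ x, ι x ∈ GalDesc.fixedSub a := fun x => hW ▸ LinearMap.mem_range_self ι x
  let e₀ : W →ₗ[k] fixed k K (Twist a) :=
    LinearMap.codRestrict _ (((Twist.mk a : M →ₗ[K] Twist a).restrictScalars k).comp ι)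
      (fun x => (mem_fixed_twist a).mpr (hfix x))
  have he₀ : Function.Bijective e₀ := by
    refine ⟨fun x y hxy => hι ((Twist.mk a).injective (congrArg Subtype.val hxy)), ?_⟩
    rintro ⟨y, hy⟩
    obtain ⟨y, rfl⟩ := (Twist.mk a).surjective y
    obtain ⟨x, rfl⟩ : y ∈ LinearMap.range ι := by rw [hW]; exact (mem_fixed_twist a).mp hy
    exact ⟨x, rfl⟩
  let e := LinearEquiv.ofBijective e₀ he₀
  let h : K ⊗[k] W ≃ₗ[K] M :=
    ((LinearEquiv.baseChange k K _ _ e).trans (descentEquiv k K (Twist a))).trans (Twist.mk a).symm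
  have h1 : ∀ (c : K) (x : W), h (c ⊗ₜ x) = c • ι x := by
    intro c x
    show (Twist.mk a).symm (descentEquiv k K (Twist a) (LinearEquiv.baseChange k K _ _ e (c ⊗ₜ x))) = _
    rw [LinearEquiv.baseChange_tmul, descentEquiv_tmul, map_smul]
    rfl
  refine ⟨h, h1, fun σ y => ?_⟩
  induction y using TensorProduct.induction_on with
  | zero => simp
  | tmul c x =>
    rw [TensorProduct.smul_tmul', h1, h1, smul_distrib_smul, map_smul, hfix x σ]
  | add y y' hy hy' => simp only [smul_add, map_add, hy, hy']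

theorem finrank_fixedSub : finrank k (GalDesc.fixedSub a) = finrank K M := by
  obtain ⟨h, -, -⟩ := exists_descent_equiv a (GalDesc.fixedSub a).subtype Subtype.val_injective
    (Submodule.range_subtype _)
  rw [← h.finrank_eq, Module.finrank_baseChange]

/-- Hilbert 90 for the automorphisms of a finite-dimensional space. -/
theorem exists_cocycle_eq [FiniteDimensional K M] :
    ∃ f : M ≃ₗ[K] M, ∀ σ : K ≃ₐ[k] K, a σ = f * (σ • f)⁻¹ := by
  haveI : Module.Finite k M := Module.Finite.trans K M
  let t : GpH1.OneCocycle (K ≃ₐ[k] K) (M ≃ₗ[K] M) := GpH1.OneCocycle.trivial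
  obtain ⟨h, -, hh⟩ := exists_descent_equiv a (GalDesc.fixedSub a).subtype Subtype.val_injective
    (Submodule.range_subtype _)
  obtain ⟨h', -, hh'⟩ := exists_descent_equiv t (GalDesc.fixedSub t).subtype Subtype.val_injective
    (Submodule.range_subtype _)
  let e : GalDesc.fixedSub t ≃ₗ[k] GalDesc.fixedSub a :=
    LinearEquiv.ofFinrankEq _ _ (by rw [finrank_fixedSub, finrank_fixedSub])
  let f : M ≃ₗ[K] M := (h'.symm.trans (LinearEquiv.baseChange k K _ _ e)).trans h
  refine ⟨f, fun σ => eq_mul_inv_of_mul_eq (LinearEquiv.ext fun x => ?_)⟩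
  rw [LinearEquiv.mul_apply, GalDesc.conj_smul_apply]
  show a σ (σ • h ((LinearEquiv.baseChange k K _ _ e) (h'.symm (σ⁻¹ • x)))) = h _
  rw [← hh σ]
  congr 1
  have key : ∀ z, σ • (LinearEquiv.baseChange k K _ _ e z) = LinearEquiv.baseChange k K _ _ e (σ • z) := by
    intro z
    induction z using TensorProduct.induction_on with
    | zero => simp
    | tmul c z => simp [TensorProduct.smul_tmul']
    | add z z' hz hz' => simp only [smul_add, map_add, hz, hz']
  rw [key]
  show _ = LinearEquiv.baseChange k K _ _ e (h'.symm x)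
  congr 1
  apply h'.injective
  rw [hh', h'.apply_symm_apply, h'.apply_symm_apply]
  show σ • σ⁻¹ • x = x
  rw [smul_inv_smul]

end Twist

section Restrict

variable [FiniteDimensional k K] [IsGalois k K]
  {W : Type w'} [AddCommGroup W] [Module k W] {W' : Type w''} [AddCommGroup W'] [Module k W']

omit [FiniteDimensional k K] [IsGalois k K] in
/-- `1 ⊗ x` determines `x`. -/
theorem one_tmul_injective : Function.Injective (fun x : W => (1 : K) ⊗ₜ[k] x) := by
  obtain ⟨l, hl⟩ := (Algebra.linearMap k K).exists_leftInverse_of_injective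
    (LinearMap.ker_eq_bot.mpr (algebraMap k K).injective)
  intro x y h
  have := congrArg (fun z => TensorProduct.lid k W (LinearMap.rTensor W l z)) h
  have h1 : l 1 = 1 := by simpa using LinearMap.congr_fun hl 1
  simpa [h1] using this

/-- An equivariant isomorphism of base changes comes from the base field. -/
theorem exists_linearEquiv_of_equivariant (f : K ⊗[k] W ≃ₗ[K] K ⊗[k] W')
    (hf : ∀ (σ : K ≃ₐ[k] K) (y : K ⊗[k] W), f (σ • y) = σ • f y) :
    ∃ e : W ≃ₗ[k] W', ∀ x, f ((1 : K) ⊗ₜ x) = (1 : K) ⊗ₜ e x := by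
  have hf' : ∀ (σ : K ≃ₐ[k] K) (y : K ⊗[k] W'), f.symm (σ • y) = σ • f.symm y := fun σ y =>
    f.injective (by rw [f.apply_symm_apply, hf, f.apply_symm_apply])
  have h1 : ∀ x : W, ∃ x' : W', (1 : K) ⊗ₜ[k] x' = f ((1 : K) ⊗ₜ x) := fun x =>
    exists_one_tmul_of_fixed fun σ => by rw [← hf, one_tmul_mem_fixed]
  have h2 : ∀ x : W', ∃ x' : W, (1 : K) ⊗ₜ[k] x' = f.symm ((1 : K) ⊗ₜ x) := fun x =>
    exists_one_tmul_of_fixed fun σ => by rw [← hf', one_tmul_mem_fixed]
  choose φ hφ using h1
  choose ψ hψ using h2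
  refine ⟨{ toFun := φ, invFun := ψ, map_add' := ?_, map_smul' := ?_, left_inv := ?_, right_inv := ?_ },
    fun x => (hφ x).symm⟩
  · intro x y
    apply one_tmul_injective (k := k) (K := K)
    simp only [hφ, TensorProduct.tmul_add, map_add]
  · intro c x
    apply one_tmul_injective (k := k) (K := K)
    simp only [hφ, TensorProduct.tmul_smul, RingHom.id_apply]
    exact LinearMap.map_smul_of_tower f.toLinearMap c _
  · intro x
    apply one_tmul_injective (k := k) (K := K)
    simp only [hψ, hφ, LinearEquiv.symm_apply_apply]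
  · intro x
    apply one_tmul_injective (k := k) (K := K)
    simp only [hψ, hφ, LinearEquiv.apply_symm_apply]

end Restrict

end GrothLib.GalDescent
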